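import Cfsg.Agent.Lib.A8.Sx

/-! The exceptional configuration: the two alternating groups commute. -/

set_option autoImplicit false

namespace H58.St

open Equiv Equiv.Perm H58.Cd H58.SE Subgroup

def x0 : P5 := swap 0 4 * swap 4 3

theorem c0_key (q : P5) : q * ω = ω * q → (q * u0 = u0 * q → q = 1 ∨ q = ω ∨ q = u0 ∨ q = ω * u0) ∧
    (q * τ = τ * q → q * q = 1 ∧ (q * u0 = u0 * q → q = 1 ∨ q = ω)) := by
  simp only [Cd.eq_iff (n := 5), code_mul]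
  refine fp 5 (code q) ⟨q, rfl⟩ ?_
  decide +kernel

variable {G : Type*} [Group G]

theorem lc {x y : G} (h : x * y = y * x) (z : G) : x * (y * z) = y * (x * z) := by
  rw [← mul_assoc, h, mul_assoc]

theorem ls {x : G} (h : x * x = 1) (z : G) : x * (x * z) = z := by rw [← mul_assoc, h, one_mul]

theorem cjm {g a c a' c' : G} (h1 : g * a * g⁻¹ = a') (h2 : g * c * g⁻¹ = c') :
    g * (a * c) * g⁻¹ = a' * c' := by rw [← conj_mul, h1, h2]

theorem transv {M x a1 a2 a3 w : G} (h1 : x * a1 * x⁻¹ = a2) (h2 : x * a2 * x⁻¹ = a3)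
    (h3 : x * a3 * x⁻¹ = a1) (hx : x * w * x⁻¹ = w) (hw : w * w = 1) (m0 : M * w * M⁻¹ = w)
    (m1 : M * a1 * M⁻¹ = a1) (m2 : M * a2 * M⁻¹ = a2 * w) (m3 : M * a3 * M⁻¹ = a3 * w) {k : G}
    (hk : k = x⁻¹ * M * x * (x * M * x⁻¹) * M) :
    k * a1 * k⁻¹ = a1 ∧ k * a2 * k⁻¹ = a2 ∧ k * w * k⁻¹ = w := by
  have e : ∀ y, k * y * k⁻¹ =
      x⁻¹ * (M * (x * (x * (M * (x⁻¹ * (M * y * M⁻¹) * x) * M⁻¹) * x⁻¹) * x⁻¹) * M⁻¹) * x := by
    intro y; rw [hk]; group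
  have i : ∀ {a b : G}, x * a * x⁻¹ = b → x⁻¹ * b * x = a := fun h => by rw [← h]; group
  refine ⟨?_, ?_, ?_⟩
  · rw [e, m1, i h3, m3, cjm h3 hx, cjm h1 hx, cjm m2 m0, mul_assoc a2, hw, mul_one, i h1]
  · rw [e, m2, i (cjm h1 hx), cjm m1 m0, cjm h1 hx, cjm h2 hx, cjm m3 m0, mul_assoc a3, hw, mul_one,
      i h2]
  · rw [e, m0, i hx, m0, hx, hx, m0, i hx]

namespace Sx

variable [Finite G] {m : PH PP G} {b : G} (h : Sx m b) (hw : b * m.f (1, ω) * b⁻¹ = m.f (ρ, 1))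
include h hw

theorem no_six {C : Subgroup G} {φ : G → P6} (h6 : Q6 C (m.f (1, τ)) φ) : False := by
  have AT : ∀ {x}, IsConj (m.f (1, ω)) x → IsConj (m.f (1, τ)) x → False := fun h1 h2 =>
    (isConj_iff.1 (h2.trans h1.symm)).elim h.nTA
  have AY : ∀ {x}, IsConj (m.f (1, ω)) x → IsConj b x ∨ IsConj (b * m.f (1, τ)) x → False :=
    fun h1 h2 => h2.elim (fun h2 => (isConj_iff.1 (h1.trans h2.symm)).elim (h.not_conj_w1 h.b_conj))
      fun h2 => (isConj_iff.1 (h1.trans h2.symm)).elim (h.not_conj_w1 h.bt_conj)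
  have TY : ∀ {x}, IsConj (m.f (1, τ)) x → IsConj b x ∨ IsConj (b * m.f (1, τ)) x → False :=
    fun h1 h2 => h2.elim (fun h2 => (isConj_iff.1 (h1.trans h2.symm)).elim (h.nTY h.b_conj))
      fun h2 => (isConj_iff.1 (h1.trans h2.symm)).elim (h.nTY h.bt_conj)
  have hb : b ∈ C := h6.mem.2 (h.tN h.b_N)
  have he : ∀ i j, e m i j ∈ C := fun i j => h6.mem.2 (h.te i j)
  have bt := h.bt
  have b1 : φ b ≠ 1 := (h6.ker hb).not.2 (by
    rintro (e | e) <;> refine h.b_not_mem (e ▸ ?_)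
    exacts [one_mem _, h.fL _])
  have z1 := h6.cube (he 1 0) (h.e_cube _ _) (h.e_eq_one.not.2 (by decide))
  have z2 := h6.cube (he 1 1) (h.e_cube _ _) (h.e_eq_one.not.2 (by decide))
  have sb := supp26 (h6.comm (he 1 1) hb (by rw [eq_comm, ← mul_inv_eq_iff_eq_mul, h.b_conj]))
    (h6.sq hb h.b2) b1 z2.1 z2.2
  have c0 : e m 1 0 * m.f (1, ω) = m.f (1, ω) * e m 1 0 :=
    ((h.comm_f h.w1_mem).2 (by decide +kernel)).symm
  obtain ⟨u, u1, u2, u3⟩ : ∃ u, u * m.f (1, ω) * u⁻¹ = m.f (1, ω) ∧ u * m.f (ρ, 1) * u⁻¹ = m.f (ρ, 1) ∧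
      u * m.f (1, τ) * u⁻¹ = m.f (1, ω) * m.f (1, τ) :=
    ⟨m.f (1, u0), by simp only [h.fi, h.fm, h.fe]; decide +kernel⟩
  obtain ⟨a1, a2, a3, a4, a5, a6, a7, a8, a9⟩ : m.f (1, ω) * m.f (1, ω) = 1 ∧
      m.f (ρ, 1) * m.f (ρ, 1) = 1 ∧ m.f (ρ, 1) * m.f (1, ω) = m.f (1, ω) * m.f (ρ, 1) ∧
      m.f (1, τ) * m.f (1, ω) = m.f (1, ω) * m.f (1, τ) ∧
      m.f (1, τ) * m.f (ρ, 1) = m.f (ρ, 1) * m.f (1, τ) ∧ m.f (1, ω) ≠ 1 ∧ m.f (1, ω) ≠ m.f (1, τ) ∧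
      m.f (ρ, 1) ≠ m.f (1, ω) ∧ m.f (ρ, 1) ≠ m.f (1, ω) * m.f (1, τ) := by
    simp only [ne_eq, h.fm, h.fe, h.f1]; decide +kernel
  generalize m.f (1, ω) = w1 at *
  generalize m.f (ρ, 1) = w2 at *
  generalize m.f (1, τ) = t at *
  have t2 := h6.t2
  have h1 : w1 ∈ C := h6.mem.2 a4.symm
  have h2 : w2 ∈ C := h6.mem.2 a5.symm
  have ht : t ∈ C := h6.mem.2 rfl
  have φt : ∀ {x}, x ∈ C → φ (x * t) = φ x := fun hx => by
    rw [h6.mul hx ht, (h6.ker ht).2 (Or.inr rfl), mul_one]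
  have cj : ∀ {r x y : G} (g : G), IsConj r x → g * x * g⁻¹ = y → IsConj r y :=
    fun g h1 h2 => h1.trans (isConj_iff.2 ⟨g, h2⟩)
  have sp := supp26 (h6.comm (he 1 0) h1 c0) (h6.sq h1 a1) ((h6.ker h1).not.2 (by simp [a6, a7]))
    z1.1 z1.2
  obtain ⟨F, f1, f2, f3, f4, f5⟩ := exists_tri (h6.sq h1 a1) (h6.sq h2 a2) (h6.comm h2 h1 a3)
    (fun e => (h6.eq h2 h1 e).elim a8 a9) (by rw [← hw, h6.conj hb h1, card_support_conj]) sp
  obtain ⟨f, hf, rfl⟩ := h6.surj F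
  have ft : f * t * f⁻¹ = t := mul_inv_eq_iff_eq_mul.2 (h6.mem.1 hf)
  have T1 : IsConj t (w1 * t) := cj u (IsConj.refl _) u3
  have T2 : IsConj t (w2 * t) := cj b T1 (by rw [← conj_mul, hw, bt])
  have T3 : IsConj t (w1 * w2 * t) := cj u T2 (by rw [← conj_mul, u2, u3, lc a3, mul_assoc])
  have g1 : f * w1 * f⁻¹ = w2 := (h6.eq (mul_mem (mul_mem hf h1) (inv_mem hf)) h2
    (by rw [h6.conj hf h1, f1])).resolve_right fun e => AT (cj f (IsConj.refl _) e) T2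
  rw [← h6.conj hf h2] at f2 f3 f4 f5
  obtain ⟨s, g2⟩ : ∃ s, f * w2 * f⁻¹ = s := ⟨_, rfl⟩
  have hs : s ∈ C := g2 ▸ mul_mem (mul_mem hf h2) (inv_mem hf)
  rw [g2] at f2 f3 f4 f5
  have As : IsConj w1 s := cj f (cj f (IsConj.refl _) g1) g2
  have g3 : f * s * f⁻¹ = w1 := (h6.eq (mul_mem (mul_mem hf hs) (inv_mem hf)) h1
    (by rw [h6.conj hf hs, f2])).resolve_right fun e => AT (cj f As e) T1
  have s2 : s * s = 1 := g2 ▸ conj_sq a2
  have c2 : s * w2 = w2 * s := by have := conj_comm (g := f) a3; rwa [g1, g2] at this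
  have c1 : s * w1 = w1 * s := by have := conj_comm (g := f) c2; rw [g2, g3] at this; exact this.symm
  have c3 : t * s = s * t := (h6.mem.1 hs).symm
  have T4 : IsConj t (s * t) := cj f T2 (by rw [← conj_mul, g2, ft])
  have T5 : IsConj t (w2 * (s * t)) := cj f T3 (by rw [← conj_mul, ← conj_mul, g1, g2, ft, mul_assoc])
  have T6 : IsConj t (w1 * (s * t)) := cj f T5 (by rw [← conj_mul, ← conj_mul, g2, g3, ft, lc c1])
  have h12 := mul_mem (mul_mem h1 h2) hs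
  obtain ⟨Y1, Y2⟩ : (IsConj b (w1 * (w2 * s)) ∨ IsConj (b * t) (w1 * (w2 * s))) ∧
      (IsConj b (w1 * (w2 * (s * t))) ∨ IsConj (b * t) (w1 * (w2 * (s * t)))) := by
    have key : ∀ {x}, x ∈ C → x * x = 1 → (φ b).support.card = (φ x).support.card →
        (IsConj b x ∨ IsConj (b * t) x) ∧ (IsConj b (x * t) ∨ IsConj (b * t) (x * t)) := by
      intro x hx x2 e
      obtain ⟨g, hg⟩ := isConj_iff.1 (S8.isConj_of_invol (h6.sq hb h.b2) (h6.sq hx x2) e)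
      obtain ⟨g, hg', rfl⟩ := h6.surj g
      have gt : g * t * g⁻¹ = t := mul_inv_eq_iff_eq_mul.2 (h6.mem.1 hg')
      rcases h6.eq (mul_mem (mul_mem hg' hb) (inv_mem hg')) hx (by rw [h6.conj hg' hb, hg]) with e | e
      · exact ⟨Or.inl (cj g (IsConj.refl _) e),
          Or.inr (cj g (IsConj.refl _) (by rw [← conj_mul, e, gt]))⟩
      · exact ⟨Or.inr (cj g (IsConj.refl _) (by rw [← conj_mul, e, gt, mul_assoc, t2, mul_one])),
          Or.inl (cj g (IsConj.refl _) e)⟩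
    have n1 : (φ b).support.card ≠ (φ w1).support.card := fun e =>
      AY (IsConj.refl _) (key h1 a1 e).1
    simpa only [mul_assoc] using key h12
      (by simp only [mul_assoc, lc c1, lc c2, lc a3, ls a1, ls a2, s2])
      (by rw [h6.mul (mul_mem h1 h2) hs, h6.mul h1 h2]; omega)
  have i : ∀ {a c : G}, u * a * u⁻¹ = c → u⁻¹ * c * u⁻¹⁻¹ = a := fun h => by rw [← h]; group
  have u4 : u * (w1 * t) * u⁻¹ = t := by rw [← conj_mul, u1, u3, ls a1]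
  have hs' : u * s * u⁻¹ ∈ C := h6.mem.2 (by
    rw [← u4]; exact conj_comm (by rw [lc c1, mul_assoc, c3]))
  have As' : IsConj w1 (u * s * u⁻¹) := cj u As rfl
  have hv : ∀ {x}, x ∈ C → (φ x = 1 ∨ φ x = φ w1 ∨ φ x = φ w2 ∨ φ x = φ w1 * φ w2) →
      ∃ v, (v = 1 ∨ v = w1 ∨ v = w2 ∨ v = w1 * w2) ∧ (x = v ∨ x = v * t) := by
    intro x hx e
    rw [← h6.mul h1 h2, ← h6.one] at e
    rcases e with e | e | e | e
    exacts [⟨_, by simp, h6.eq hx (one_mem _) e⟩, ⟨_, by simp, h6.eq hx h1 e⟩,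
      ⟨_, by simp, h6.eq hx h2 e⟩, ⟨_, by simp, h6.eq hx (mul_mem h1 h2) e⟩]
  rcases f5 _ (h6.comm hs' h1 (u1 ▸ conj_comm c1)) (h6.comm hs' h2 (u2 ▸ conj_comm c2)) with e | e
  · obtain ⟨v, hv1, hv2⟩ := hv hs' e
    have e1 : u * v * u⁻¹ = v := by
      rcases hv1 with rfl | rfl | rfl | rfl
      exacts [by simp, u1, u2, by rw [← conj_mul, u1, u2]]
    have e2 : φ s = φ v ∨ φ s = φ (v * w1) := by
      rcases hv2 with e2 | e2
      · exact Or.inl (by rw [← i e2, i e1])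
      · have hv : v * w1 ∈ C := by
          rcases hv1 with rfl | rfl | rfl | rfl <;> simp [mul_mem, h1, h2]
        refine Or.inr (by rw [← i e2, ← conj_mul, i e1, i u4, ← mul_assoc, φt hv])
    rw [← h6.mul h1 h2, ← h6.one] at f4
    rcases hv1 with rfl | rfl | rfl | rfl <;>
      simp only [one_mul, mul_assoc, a1, a3, ls a1, f4.1, f4.2.1, f4.2.2.1, f4.2.2.2, or_self] at e2
  rw [← h6.mul hs' hs] at e
  obtain ⟨v, hv1, hv2⟩ := hv (mul_mem hs' hs) e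
  have inv : s⁻¹ = s := inv_eq_of_mul_eq_one_right s2
  rw [← eq_mul_inv_iff_mul_eq (b := v), ← eq_mul_inv_iff_mul_eq (b := v * t), inv] at hv2
  rcases hv1 with e0 | e0 | e0 | e0 <;> rw [e0] at hv2 <;>
    simp only [one_mul, mul_assoc _ t, c3, mul_assoc w1] at hv2 <;>
    rcases hv2 with e | e
  · exact TY (cj u T5 (by rw [← conj_mul, ← conj_mul, e, u2, u3, lc c1, lc a3])) Y2
  · exact AT (e ▸ As') T4
  · exact AY (cj u ((e ▸ As').trans (isConj_iff.2 ⟨f, (cjm g2 g3).trans c1⟩).symm)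
      (by rw [cjm u2 e, lc a3])) Y1
  · exact AT (e ▸ As') T6
  · exact TY (cj u T4 (by rw [← conj_mul, e, u3, mul_assoc, lc c1, lc a3])) Y2
  · exact AT (e ▸ As') T5
  · exact AY (e ▸ As') Y1
  · exact AY (e ▸ As') Y2

omit [Finite G] in
theorem bw2 : b * m.f (ρ, 1) * b⁻¹ = m.f (1, ω) := by rw [← hw, h.bb]

omit [Finite G] hw in
theorem cz (q : P5) : m.f (1, κ) * (b * m.f (1, q) * b⁻¹) = b * m.f (1, q) * b⁻¹ * m.f (1, κ) := by
  have := conj_comm (g := b) ((h.comm_f (h.top (1, q)) (i := 1) (j := 0)).2 (by simp [pe])).symm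
  rwa [h.bz] at this

omit [Finite G] in
theorem cw (q : P5) : m.f (1, ω) * (b * m.f (1, q) * b⁻¹) = b * m.f (1, q) * b⁻¹ * m.f (1, ω) :=
  h.bw2 hw ▸ conj_comm (by simp [h.fm])

variable (hT : ∀ k, k * m.f (1, τ) = m.f (1, τ) * k → k ∈ normalizer (DD m : Set G))
include hT

theorem not_le : ¬ Ba.KK m ≤ m.range := by
  intro hK
  have K0 : ∀ k, k * m.f (1, ω) = m.f (1, ω) * k → k * m.f (1, u0) = m.f (1, u0) * k →
      k ∈ m.range := by
    intro k h1 h2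
    have e1 : m.f (1, swap 2 4 * swap 4 3) * m.f (1, ω) * (m.f (1, swap 2 4 * swap 4 3))⁻¹ =
        m.f (1, v1) := by simp only [h.fi, h.fm, h.fe]; decide +kernel
    have e2 : m.f (1, swap 2 4 * swap 4 3) * (m.f (1, ω) * m.f (1, u0)) *
        (m.f (1, swap 2 4 * swap 4 3))⁻¹ = m.f (1, v2) := by
      simp only [h.fi, h.fm, h.fe]; decide +kernel
    have := hK (Ba.mem_KK.2 ⟨e1 ▸ conj_comm h1, e2 ▸ conj_comm (Commute.mul_right h1 h2)⟩)
    have h3 := h.fL (1, swap 2 4 * swap 4 3)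
    simpa [mul_assoc] using mul_mem (mul_mem (inv_mem h3) this) h3
  have rho : ∀ p : P3, p * ρ = ρ * p → p = 1 ∨ p = ρ := by decide +kernel
  have bw2 := h.bw2 hw
  have d1 := h.cw hw u0
  have nL : b * m.f (1, u0) * b⁻¹ ∉ m.range := by
    rw [h.hL, ← h.bz']
    simp only [conj_inv, conj_mul, mul_left_inj, mul_right_inj]
    simp only [e, h.fi, h.fm, h.fe]; decide +kernel
  obtain ⟨a1, a2, a3, a4, a5, a6, a7, a8, a9, a10⟩ : m.f (1, ω) * m.f (1, ω) = 1 ∧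
      m.f (ρ, 1) * m.f (ρ, 1) = 1 ∧ m.f (ρ, 1) * m.f (1, ω) = m.f (1, ω) * m.f (ρ, 1) ∧
      m.f (1, τ) * m.f (1, ω) = m.f (1, ω) * m.f (1, τ) ∧
      m.f (1, τ) * m.f (ρ, 1) = m.f (ρ, 1) * m.f (1, τ) ∧ m.f (1, u0) * m.f (1, u0) = 1 ∧
      m.f (1, u0) * m.f (1, ω) = m.f (1, ω) * m.f (1, u0) ∧
      m.f (1, u0) * m.f (ρ, 1) = m.f (ρ, 1) * m.f (1, u0) ∧
      m.f (1, u0) * m.f (1, τ) = m.f (1, ω) * (m.f (1, τ) * m.f (1, u0)) ∧
      m.f (ρ, ω) = m.f (1, ω) * m.f (ρ, 1) := by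
    simp only [h.fm, h.fe, h.f1]; decide +kernel
  have d2 := conj_comm (g := b) a7
  have d3 := congrArg (fun x => b * x * b⁻¹) a9
  have d4 := conj_sq (g := b) a6
  have d5 := h.bb (m.f (1, u0))
  simp only [← conj_mul, hw, h.bt] at d2 d3
  obtain ⟨y, hy⟩ : ∃ y, b * m.f (1, u0) * b⁻¹ = y := ⟨_, rfl⟩
  rw [hy] at d1 d2 d3 d4 d5 nL
  have t2 := h.t2
  have c1 : m.f (1, u0) * y * (m.f (1, u0) * y) * m.f (1, ω) =
      m.f (1, ω) * (m.f (1, u0) * y * (m.f (1, u0) * y)) :=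
    Commute.mul_left (Commute.mul_left a7 d1.symm) (Commute.mul_left a7 d1.symm)
  have c2 : m.f (1, u0) * y * (m.f (1, u0) * y) * m.f (ρ, 1) =
      m.f (ρ, 1) * (m.f (1, u0) * y * (m.f (1, u0) * y)) :=
    Commute.mul_left (Commute.mul_left a8 d2) (Commute.mul_left a8 d2)
  have l3 : ∀ x, y * (m.f (1, τ) * x) = m.f (ρ, 1) * (m.f (1, τ) * (y * x)) := fun x => by
    rw [← mul_assoc, d3]; group
  have l9 : ∀ x, m.f (1, u0) * (m.f (1, τ) * x) = m.f (1, ω) * (m.f (1, τ) * (m.f (1, u0) * x)) :=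
    fun x => by rw [← mul_assoc, a9]; group
  have c3 : m.f (1, u0) * y * (m.f (1, u0) * y) * m.f (1, τ) =
      m.f (1, τ) * (m.f (1, u0) * y * (m.f (1, u0) * y)) := by
    simp only [mul_assoc, d3, l3, l9, lc a7, lc a8, lc d1.symm, lc d2, lc a3, ls a1, ls a2]
  obtain ⟨k, hk⟩ : ∃ k, m.f (1, u0) * y * (m.f (1, u0) * y) = k := ⟨_, rfl⟩
  have hb : b * k * b⁻¹ = k⁻¹ := by
    rw [← hk, cjm (cjm hy d5) (cjm hy d5), eq_inv_iff_mul_eq_one]
    simp only [mul_assoc, ls a6, ls d4, d4]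
  have hu : m.f (1, u0) * k = k⁻¹ * m.f (1, u0) := by
    rw [eq_inv_mul_iff_mul_eq, ← hk]; simp only [mul_assoc, ls a6, ls d4, d4, mul_one]
  rw [hk] at c1 c2 c3
  obtain ⟨⟨p, q⟩, -, rfl⟩ := m.mem_range.1 ((h.mem_N_cases (hT k c3)).resolve_right fun hL => by
    obtain ⟨⟨p, q⟩, -, e⟩ := m.mem_range.1 hL
    have : b * k * m.f (1, ω) * (b * k)⁻¹ = m.f (ρ, 1) := by rw [mul_assoc b, c1, ← hw]; group
    rw [← e, h.fi, h.fm, h.fm, h.fe] at this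
    exact absurd (congrArg Prod.fst this) (by simp [ρ, eq_comm]))
  rw [h.fm, h.fm, h.fe] at c1 c2 c3
  obtain ⟨q2, q3⟩ := (c0_key q (congrArg Prod.snd c1)).2 (congrArg Prod.snd c3)
  have ki : (m.f (p, q))⁻¹ = m.f (p, q) := inv_eq_of_mul_eq_one_right (by
    rw [h.fm, h.f1]
    rcases rho p (congrArg Prod.fst c2) with rfl | rfl <;> simp [q2, ρ])
  rw [ki] at hb hu
  rw [h.fm, h.fm, h.fe] at hu
  have yu : y * m.f (1, u0) ≠ m.f (1, u0) * y := fun e => nL (K0 _ d1.symm e)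
  have hc : m.f (1, u0) * y * (m.f (1, u0) * y) = m.f (ρ, ω) := by
    rcases rho p (congrArg Prod.fst c2) with rfl | rfl <;>
      rcases q3 (congrArg Prod.snd hu).symm with rfl | rfl
    · refine absurd ?_ yu
      rw [show m.f (1, 1) = 1 from m.one, mul_eq_one_iff_eq_inv] at hk
      rw [hk, mul_inv_rev, inv_eq_of_mul_eq_one_right a6, inv_eq_of_mul_eq_one_right d4]
    · rw [hw, h.fe] at hb; exact absurd hb (by decide +kernel)
    · rw [bw2, h.fe] at hb; exact absurd hb (by decide +kernel)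
    · exact hk
  clear hk hb hu ki q2 q3 c1 c2 c3 p q
  have d6 : y * m.f (1, u0) = m.f (1, ω) * (m.f (ρ, 1) * (m.f (1, u0) * y)) := by
    rw [← mul_assoc, ← a10, ← hc]
    have : m.f (ρ, ω) * m.f (ρ, ω) = 1 := by rw [h.fm, h.f1]; decide +kernel
    rw [← hc] at this
    calc _ = y * m.f (1, u0) * (m.f (1, u0) * y * (m.f (1, u0) * y) *
      (m.f (1, u0) * y * (m.f (1, u0) * y))) := by rw [this, mul_one]
      _ = _ := by simp only [mul_assoc, ls a6, ls d4]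
  have l6 : ∀ x, y * (m.f (1, u0) * x) = m.f (1, ω) * (m.f (ρ, 1) * (m.f (1, u0) * (y * x))) :=
    fun x => by rw [← mul_assoc, d6]; group
  have l9' : ∀ x, m.f (1, τ) * (m.f (1, u0) * x) = m.f (1, ω) * (m.f (1, u0) * (m.f (1, τ) * x)) :=
    fun x => by rw [l9, ls a1]
  obtain ⟨x1, x2, x3, x4, x5⟩ : m.f (1, x0) * m.f (1, ω) * (m.f (1, x0))⁻¹ = m.f (1, u0) ∧
      m.f (1, x0) * m.f (1, u0) * (m.f (1, x0))⁻¹ = m.f (1, ω) * m.f (1, u0) ∧
      m.f (1, x0) * (m.f (1, ω) * m.f (1, u0)) * (m.f (1, x0))⁻¹ = m.f (1, ω) ∧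
      m.f (1, x0) * m.f (ρ, 1) * (m.f (1, x0))⁻¹ = m.f (ρ, 1) ∧
      m.f (1, τ) * m.f (1, x0) * (m.f (1, τ))⁻¹ = (m.f (1, x0))⁻¹ := by
    simp only [h.fi, h.fm, h.fe]; decide +kernel
  have m0 : m.f (1, τ) * y * m.f (ρ, 1) * (m.f (1, τ) * y)⁻¹ = m.f (ρ, 1) :=
    mul_inv_eq_iff_eq_mul.2 (Commute.mul_left a5 d2)
  have m1 : m.f (1, τ) * y * m.f (1, ω) * (m.f (1, τ) * y)⁻¹ = m.f (1, ω) :=
    mul_inv_eq_iff_eq_mul.2 (Commute.mul_left a4 d1.symm)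
  have m2 : m.f (1, τ) * y * m.f (1, u0) * (m.f (1, τ) * y)⁻¹ = m.f (1, u0) * m.f (ρ, 1) := by
    rw [mul_inv_eq_iff_eq_mul]
    simp only [mul_assoc, d6, lc a4, lc a5, l9', lc a3, ls a1, lc a8]
  obtain ⟨k1, k2, k3⟩ := transv x1 x2 x3 x4 a2 m0 m1 m2 (by rw [cjm m1 m2, mul_assoc]) rfl
  have hg : m.f (1, τ) * (m.f (1, x0) * (m.f (1, τ) * y) * (m.f (1, x0))⁻¹)⁻¹ * m.f (1, τ) *
      (m.f (1, τ) * (m.f (1, x0) * (m.f (1, τ) * y) * (m.f (1, x0))⁻¹)⁻¹)⁻¹ =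
      y * ((m.f (1, x0))⁻¹ * (m.f (1, τ) * y) * m.f (1, x0) *
        (m.f (1, x0) * (m.f (1, τ) * y) * (m.f (1, x0))⁻¹) * (m.f (1, τ) * y))⁻¹ := by
    generalize m.f (1, τ) = t at *
    generalize m.f (1, x0) = x at *
    have ti : t⁻¹ = t := inv_eq_of_mul_eq_one_right t2
    have yi : y⁻¹ = y := inv_eq_of_mul_eq_one_right d4
    have x6 : ∀ g, t * (x * g) = x⁻¹ * (t * g) := fun g => by rw [← x5]; group
    have x7 : ∀ g, t * (x⁻¹ * g) = x * (t * g) := fun g => by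
      rw [← x5, ti, mul_assoc, mul_assoc, ls t2]
    simp only [mul_inv_rev, inv_inv, ti, yi, mul_assoc, ls t2, ls d4, x6, x7]
  generalize (m.f (1, x0))⁻¹ * (m.f (1, τ) * y) * m.f (1, x0) *
    (m.f (1, x0) * (m.f (1, τ) * y) * (m.f (1, x0))⁻¹) * (m.f (1, τ) * y) = k at *
  generalize m.f (1, τ) * (m.f (1, x0) * (m.f (1, τ) * y) * (m.f (1, x0))⁻¹)⁻¹ = g at hg
  rw [mul_inv_eq_iff_eq_mul] at k1 k2 k3
  obtain ⟨⟨p, q⟩, -, e⟩ := m.mem_range.1 (inv_mem (K0 k k1 k2))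
  have k4 := (show Commute _ _ from k1).inv_left.eq
  have k5 := (show Commute _ _ from k2).inv_left.eq
  have k6 := (show Commute _ _ from k3).inv_left.eq
  rw [← e] at hg k4 k5 k6
  rw [h.fm, h.fm, h.fe] at k4 k5 k6
  have s1 : ∀ r, r = u0 ∨ r = u0 * ω → ∀ p, p = 1 ∨ p = ρ → g * m.f (1, τ) * g⁻¹ ≠
      b * m.f (p, r) * b⁻¹ := by
    intro r hr p hp e
    obtain ⟨l, hl⟩ : ∃ l, m.f (1, l) * m.f (p, ω) * (m.f (1, l))⁻¹ = m.f (p, r) := by
      simp only [h.fi, h.fm, h.fe]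
      rcases hr with rfl | rfl
      exacts [⟨x0, by simp; decide +kernel⟩, ⟨x0⁻¹, by simp; decide +kernel⟩]
    obtain ⟨x, hx⟩ : ∃ x, m.f (p, ω) = x * x := by
      rcases hp with rfl | rfl
      · exact ⟨m.f (1, swap 0 3 * swap 3 1 * swap 1 4), by rw [h.fm, h.fe]; decide +kernel⟩
      · exact ⟨_, hc.symm⟩
    exact h.nsq hT g (b * (m.f (1, l) * x * (m.f (1, l))⁻¹) * b⁻¹) (by rw [e, ← hl, hx]; group)
  have s2 : ∀ v, v * y = y * v → m.f (p, q) * m.f (p, q) = 1 → m.f (p, q) ≠ v * m.f (1, u0) :=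
    fun v h1 h2 e => yu (by
      have := conj_sq (g := g) t2
      rw [hg, mul_eq_one_iff_eq_inv, mul_inv_rev, inv_eq_of_mul_eq_one_right h2,
        inv_eq_of_mul_eq_one_right d4, e, ← mul_assoc, ← h1, mul_assoc, mul_assoc] at this
      exact mul_left_cancel this)
  have s3 : ∀ p' q', b * m.f (p', q') * b⁻¹ = m.f (p, q) →
      g * m.f (1, τ) * g⁻¹ = b * m.f (p', u0 * q') * b⁻¹ := fun p' q' e => by
    rw [hg, ← e, ← hy, conj_mul, h.fm]; simp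
  rcases rho p (congrArg Prod.fst k6) with rfl | rfl <;>
    rcases (c0_key q (congrArg Prod.snd k4)).1 (congrArg Prod.snd k5) with rfl | rfl | rfl | rfl
  · exact s1 _ (by simp) 1 (by simp) (s3 1 1 (by simp [show m.f (1, 1) = 1 from m.one]))
  · exact s1 _ (by simp) _ (by simp) (s3 _ _ bw2)
  · exact s2 1 (by simp) a6 (by simp)
  · exact s2 _ d1 (by rw [h.fm, h.f1]; decide +kernel) (by simp [h.fm])
  · exact s1 _ (by simp) _ (by simp) (s3 _ _ hw)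
  · exact s1 _ (by simp) ρ (by simp) (s3 _ ω (by rw [a10, cjm hw bw2, a3]))
  · exact s2 _ d2.symm (by rw [h.fm, h.f1]; decide +kernel) (by simp [h.fm])
  · exact s2 _ (Commute.mul_left d1 d2.symm) (by rw [h.fm, h.f1]; decide +kernel) (by simp [h.fm])

omit [Finite G] hw hT in
theorem gen5' {K : Subgroup G} (h1 : m.f (1, κ) ∈ K) (h2 : m.f (1, ω) ∈ K) {s : P5}
    (hs : s = v1 ∨ s = v1') (h3 : m.f (1, s) ∈ K) (r : P5) (hr : sign r = 1) : m.f (1, r) ∈ K := by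
  have key : ∀ j, m.f (1, xs s j) ∈ K := fun j => by
    have := mul_mem (mul_mem (pow_mem h1 j.val) (mul_mem h3 h2)) (inv_mem (pow_mem h1 j.val))
    simpa [h.fp', h.fi, h.fm, xs] using this
  refine h.gen5 (fun j => ?_) r hr
  rcases hs with rfl | rfl
  · exact key j
  · simpa [h.fi, xs_inv] using inv_mem (key j)

theorem comm_ab {p q : P5} (hp : sign p = 1) (hq : sign q = 1) :
    m.f (1, p) * (b * m.f (1, q) * b⁻¹) = b * m.f (1, q) * b⁻¹ * m.f (1, p) := by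
  have hz1 : e m 1 0 ≠ 1 := h.e_eq_one.not.2 (by decide)
  have V4 : Nat.card h.VV = 4 := card_four _ _ _ (h.f1.not.2 (by decide +kernel))
    (h.f1.not.2 (by decide +kernel)) (h.fe.not.2 (by decide +kernel))
  obtain ⟨s, hs, hc⟩ : ∃ s, (s = v1 ∨ s = v1') ∧ b * m.f (1, s) * b⁻¹ ∈ Ba.KK m := by
    by_contra hcon
    have key : ∀ X ≤ Ba.KK m, DD m ≤ normalizer (X : Set G) → (Nat.card X).Coprime 3 → X ≤ h.VV :=
      fun X h1 h2 h3 => (h.dinv h1 h2 h3).resolve_right fun ⟨s, hs, h4⟩ => hcon ⟨s, hs, h1 h4⟩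
    rcases scD (IsPGroup.of_card (n := 2) h.syl9.card) h.D_norm_KK h.VV_le V4 (fun v => h.VV_sq)
      (fun v hv k => h.comm_VV hv) (h.e_mem_KK 1) (h.e_cube 1 0) hz1 (fun k hk hz => by
        obtain ⟨i, v, hv, rfl⟩ := h.cV_z hk hz
        refine ⟨(-i).val, ?_⟩
        rw [h.comm_VV hv (h.e_mem_KK _), h.e_pow, mul_assoc, h.e_mul]
        simpa [Ba.e_zero] using hv)
      with ⟨X, a0, a1, a2, a3⟩ | ⟨X, a0, a1, a2, -, a3⟩ | ⟨X, a0, a1, a2⟩
    · refine h.not_le hw hT fun k hk => (h.hL k).2 ?_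
      have k2 : ∀ x, x ∈ Ba.KK m → x ^ 3 = 1 → k * e m 1 0 * k⁻¹ * x⁻¹ ∈ X →
          k * e m 1 0 * k⁻¹ = x := fun x hx x3 h1 => by
        have h2 := key X a0 a1 a2 h1
        have h3 := conj_cube (g := k) (h.e_cube 1 0)
        rw [← inv_mul_cancel_right (k * e m 1 0 * k⁻¹) x,
          Commute.mul_pow (h.comm_VV h2 hx).symm, x3, mul_one, pow_succ, pow_two, h.VV_sq h2,
          one_mul] at h3
        exact mul_inv_eq_one.1 h3
      exact (a3 k hk).imp (k2 _ (h.e_mem_KK 1) (h.e_cube 1 0)) fun h1 =>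
        k2 _ (inv_mem (h.e_mem_KK 1)) (by rw [inv_pow, h.e_cube, inv_one]) (by rwa [inv_inv])
    · exact a3 (key X a0 a1 a2)
    · have := card_le_of_le (key X a0 a1 (by rw [a2]; norm_num))
      omega
  have e1 := h.gen5' (K := (centralizer {m.f (1, v1)}).comap (MulAut.conj b).toMonoidHom)
    (mem_centralizer_singleton_iff.2 (by
      have := (Ba.mem_KK.1 (h.e_mem_KK 1)).1
      rwa [← h.bz'] at this))
    (mem_centralizer_singleton_iff.2 (by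
      change b * _ * b⁻¹ * _ = _ * (b * _ * b⁻¹)
      simp [hw, h.fm])) hs (mem_centralizer_singleton_iff.2 (Ba.mem_KK.1 hc).1) q hq
  exact mem_centralizer_singleton_iff.1 (h.gen5' (K := centralizer {b * m.f (1, q) * b⁻¹})
    (mem_centralizer_singleton_iff.2 (h.cz q)) (mem_centralizer_singleton_iff.2 (h.cw hw q))
    (Or.inl rfl) (mem_centralizer_singleton_iff.2 (mem_centralizer_singleton_iff.1 e1).symm) p hp)

end Sx

end H58.St
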