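import Cfsg.Agent.Lib.A8.Wr

/-! The exceptional configuration gives `(A₅ × A₅).2²`. -/

set_option autoImplicit false

namespace H58.St

open Equiv Equiv.Perm H58.Cd H58.SE Subgroup

theorem ep_mul (p q : P5) : ep (p * q) = ep p * ep q := by
  have : τ * τ = 1 := by decide +kernel
  rcases Int.units_eq_one_or (sign p) with h | h <;> rcases Int.units_eq_one_or (sign q) with h' | h' <;>
    simp [ep, h, h', this]

theorem ep_sq (p : P5) : ep p * ep p = 1 := by unfold ep; split_ifs <;> decide +kernel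

theorem ep_ep (p : P5) : ep (ep p) = ep p := by
  rcases Int.units_eq_one_or (sign p) with h | h <;> simp [ep, h, sτ]

theorem ep_eq {p q : P5} (h : eqs p q) : ep p = ep q := by simp [ep, eqs_iff.1 h]

theorem sign_ep (p : P5) : sign (p * ep p) = 1 := by rw [map_mul]; exact (eqs_ep p).symm

variable {G : Type*} [Group G] [Finite G] {m : PH PP G} {b : G}

theorem Sx.exc (h : Sx m b) (hw : b * m.f (1, ω) * b⁻¹ = m.f (ρ, 1))
    (hT : ∀ k, k * m.f (1, τ) = m.f (1, τ) * k → k ∈ normalizer (DD m : Set G)) :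
    ∃ n : PH QQ G, Wr n b := by
  have am : ∀ p q : P5, m.f (1, p * q) = m.f (1, p) * m.f (1, q) := fun p q => by simp [h.fm]
  have a1 : m.f (1, 1) = 1 := m.one
  have be : ∀ p, b * m.f (1, ep p) * b⁻¹ = m.f (1, ep p) := fun p => by
    unfold ep; split_ifs
    exacts [by simp [a1], h.bt]
  have ab := fun p q => h.comm_ab hw hT (p := p) (q := q)
  have sp : ∀ q, b * m.f (1, q) * b⁻¹ = b * m.f (1, q * ep q) * b⁻¹ * m.f (1, ep q) := fun q => by
    rw [← be q, conj_mul, ← am, mul_assoc q, ep_sq, mul_one]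
  let S : Subgroup QQ := (sign.comp (MonoidHom.fst P5 P5) * sign.comp (MonoidHom.snd P5 P5)).ker
  let F : QQ → G := fun x => m.f (1, x.1 * ep x.1) * (b * m.f (1, x.2) * b⁻¹)
  have kc : ∀ q x, sign x = 1 → b * m.f (1, q) * b⁻¹ * m.f (1, x) =
      m.f (1, ep q * x * ep q) * (b * m.f (1, q) * b⁻¹) := fun q x hx => by
    rw [sp q, ← mul_assoc (m.f _), ab _ _ (by simp [hx]) (sign_ep q), mul_assoc _ (m.f _) (m.f _),
      mul_assoc _ (m.f _) (m.f _), ← am, ← am, mul_assoc _ (ep q) (ep q), ep_sq, mul_one]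
  have hF : ∀ {x y}, x ∈ S → y ∈ S → F (x * y) = F x * F y := by
    rintro ⟨p, q⟩ ⟨x, y⟩ h1 -
    change m.f (1, p * x * ep (p * x)) * (b * m.f (1, q * y) * b⁻¹) = m.f (1, p * ep p) *
      (b * m.f (1, q) * b⁻¹) * (m.f (1, x * ep x) * (b * m.f (1, y) * b⁻¹))
    rw [mul_assoc (m.f _), ← mul_assoc _ (m.f (1, x * ep x)), kc _ _ (sign_ep x), mul_assoc (m.f _),
      conj_mul, ← am, ← mul_assoc (m.f _) (m.f _), ← am, ep_mul, ep_eq (p := p) (q := q) h1]
    congr 3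
    simp only [mul_assoc, ls (ep_sq q)]
    congr 2; unfold ep; split_ifs <;> simp
  have sκ : sign κ = 1 := by rw [sign_eq_one]; decide +kernel
  have sx : sign x0 = 1 := by rw [sign_eq_one]; decide +kernel
  let φ : S →* G := MonoidHom.mk' (fun x => F x) fun x y => hF x.2 y.2
  have hφ : Function.Injective φ := by
    rw [injective_iff_map_eq_one]
    rintro ⟨⟨p, q⟩, h1⟩ e
    change m.f (1, p * ep p) * (b * m.f (1, q) * b⁻¹) = 1 at e
    have e2 : m.f (1, p) = b * m.f (1, q⁻¹ * ep q⁻¹) * b⁻¹ := by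
      have e3 : ep q⁻¹ = ep p := by rw [ep_eq (p := p) (q := q) h1]; simp [ep]
      rw [e3, am, ← conj_mul, be, show ((1, q⁻¹) : PP) = (1, q)⁻¹ by simp, ← h.fi, ← conj_inv,
        ← eq_inv_of_mul_eq_one_left e, ← am, mul_assoc, ep_sq, mul_one]
    have key : ∀ r, sign r = 1 → p * r = r * p := fun r hr => by
      have := ab r _ hr (sign_ep q⁻¹)
      rw [← e2, h.fm, h.fm, h.fe] at this
      exact (congrArg Prod.snd this).symm
    obtain rfl := cen_key p (key _ sκ) (key _ sx)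
    simp only [ep, map_one, if_true, mul_one, a1, one_mul, conj_eq_one_iff, h.f1] at e
    exact Subtype.ext (Prod.ext rfl (show q = 1 from congrArg Prod.snd e))
  let n := PH.ofHom S φ hφ
  have hn : ∀ {p q}, eqs p q → n.f (p, q) = m.f (1, p * ep p) * (b * m.f (1, q) * b⁻¹) :=
    fun h1 => PH.ofHom_f _ _ _ h1
  have w0 : Wr0 n b := ⟨Iff.rfl, h.b2, fun {p q} h1 => by
    rw [hn h1, hn h1.symm, ← conj_mul, h.bb, sp p, ← mul_assoc (m.f _), ab _ _ (sign_ep q) (sign_ep p),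
      mul_assoc _ (m.f _) (m.f _), ← am, ep_eq h1, mul_assoc q, ep_sq, mul_one]⟩
  have na : ∀ p, n.f (p, ep p) = m.f (1, p) := fun p => by
    rw [hn (eqs_ep p).symm, be, ← am, mul_assoc, ep_sq, mul_one]
  have ha : ∀ p, m.f (1, p) ∈ w0.H := fun p => na p ▸ w0.fH (eqs_ep p).symm
  have hb : ∀ p, b * m.f (1, p) * b⁻¹ ∈ w0.H := fun p =>
    mul_mem (mul_mem w0.bH (ha p)) (inv_mem w0.bH)
  have hL : m.range ≤ w0.H := fun g hg => by
    obtain ⟨⟨p, q⟩, -, rfl⟩ := m.mem_range.1 hg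
    have e1 : m.f (σ, 1) ∈ w0.H := (show b * m.f (1, κ) * b⁻¹ = m.f (σ, 1) from h.bz') ▸ hb κ
    have e2 : m.f (ρ, 1) ∈ w0.H := hw ▸ hb ω
    obtain ⟨i, j, rfl⟩ : ∃ i j : Fin 3, p = σ ^ i.val * ρ ^ j.val := by
      clear * -; revert p; decide +kernel
    have := mul_mem (mul_mem (pow_mem e1 i) (pow_mem e2 j)) (ha q)
    simpa [h.fp', h.fm] using this
  have se := h.se3 hL w0.bH
  have nt : n.f (τ, τ) = m.f (1, τ) := by rw [← na]; simp [ep, sτ]
  have n1 : ∀ p, sign p = 1 → n.f (p, 1) = m.f (1, p) := fun p hp => by rw [← na]; simp [ep, hp]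
  have hz1 : e m 1 0 ≠ 1 := h.e_eq_one.not.2 (by decide)
  have hK : Ba.KK m ≤ w0.H := le_of_scD (IsPGroup.of_card (n := 2) h.syl9.card) h.D_norm_KK h.VV_le
    (card_four _ _ _ (h.f1.not.2 (by decide +kernel)) (h.f1.not.2 (by decide +kernel))
      (h.fe.not.2 (by decide +kernel))) (fun v => h.VV_sq) (fun v hv k => h.comm_VV hv)
    (h.e_mem_KK 1) (h.e_cube 1 0) hz1 (fun k hk hz => by
      obtain ⟨i, v, hv, rfl⟩ := h.cV_z hk hz
      refine ⟨(-i).val, ?_⟩
      rw [h.comm_VV hv (h.e_mem_KK _), h.e_pow, mul_assoc, h.e_mul]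
      simpa [Ba.e_zero] using hv) (hL (h.e_mem_range _ _))
    (se _ (hL (h.e_mem_range _ _)) (h.e_cube 1 0) hz1)
    (fun X h1 h2 => se.le_of_inv (h.D_le.trans hL) h.syl9.isMulCommutative h.syl9.not_isCyclic
      h.syl9.cube h1 (h.syl9.coprime h2)) (fun x hx _ h7 => by
      have key : ∀ {p q}, eqs p q → n.f (p, q) ^ 60 = 1 := fun {p q} h1 => (w0.fpw h1 _).2
        ⟨(pow_mul p 20 3).trans (pow60 p), (pow_mul q 20 3).trans (pow60 q)⟩
      have : x ^ (2 * 60) = 1 := by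
        obtain ⟨p, q, h1, rfl | rfl⟩ := w0.memH hx
        · rw [mul_comm, pow_mul, key h1, one_pow]
        · rw [pow_mul, pow_two, w0.sqb h1, key (h1.mul h1.symm)]
      exact orderOf_eq_one_iff.1 (Nat.eq_one_of_dvd_coprimes (by norm_num : Nat.Coprime 7 (2 * 60))
        (orderOf_dvd_of_pow_eq_one h7) (orderOf_dvd_of_pow_eq_one this)))
  refine ⟨n, w0, se, fun k hk => ?_, nt ▸ h.nsq hT, fun k h1 h2 => ?_⟩
  · rcases h.mem_N_cases (hT k (nt ▸ hk)) with h1 | h1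
    exacts [hL h1, by simpa using mul_mem (inv_mem w0.bH) (hL h1)]
  · rw [n1 _ sω] at h1
    rw [n1 _ (by rw [sign_eq_one]; decide +kernel)] at h2
    have e1 : m.f (1, swap 2 4 * swap 4 3) * m.f (1, ω) * (m.f (1, swap 2 4 * swap 4 3))⁻¹ =
        m.f (1, v1) := by simp only [h.fi, h.fm, h.fe]; decide +kernel
    have e2 : m.f (1, swap 2 4 * swap 4 3) * (m.f (1, ω) * m.f (1, u0)) *
        (m.f (1, swap 2 4 * swap 4 3))⁻¹ = m.f (1, v2) := by
      simp only [h.fi, h.fm, h.fe]; decide +kernel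
    have := hK (Ba.mem_KK.2 ⟨e1 ▸ conj_comm h1, e2 ▸ conj_comm (Commute.mul_right h1 h2)⟩)
    have h3 := ha (swap 2 4 * swap 4 3)
    simpa [mul_assoc] using mul_mem (mul_mem (inv_mem h3) this) h3

end H58.St
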