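import Cfsg.Agent.Lib.A8.Ex1
import Cfsg.Agent.Lib.Comp.FStar

/-! The group `(A₅ × A₅).2²` is not a proper strongly 3-embedded subgroup. -/

set_option autoImplicit false

namespace H58.St

open Equiv Equiv.Perm H58.Cd H58.SE Subgroup

abbrev QQ := P5 × P5

/-- equal signs. -/
def eqs (p q : P5) : Prop := sign p * sign q = 1

instance decEqs (p q : P5) : Decidable (eqs p q) := decidable_of_iff _ sign_mul_eq_one.symm

theorem eqs_iff {p q : P5} : eqs p q ↔ sign p = sign q := by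
  rw [eqs, mul_eq_one_iff_eq_inv, Int.units_inv_eq_self]

theorem eqs.symm {p q : P5} (h : eqs p q) : eqs q p := eqs_iff.2 (eqs_iff.1 h).symm

theorem eqs.cj {x y : P5} (h : eqs x y) (p q : P5) : eqs (p * x * p⁻¹) (q * y * q⁻¹) := by
  simpa only [eqs, map_mul, map_inv, mul_inv_cancel_comm] using h

theorem eqs.mul {x y p q : P5} (h : eqs x y) (h' : eqs p q) : eqs (x * p) (y * q) := by
  rw [eqs_iff] at *; simp [h, h']

theorem sτ : sign τ = -1 := sign_swap (by decide)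
theorem sω : sign ω = 1 := by rw [sign_eq_one]; decide +kernel

def ep (p : P5) : P5 := if sign p = 1 then 1 else τ

theorem eqs_ep (p : P5) : eqs (ep p) p := by
  rcases Int.units_eq_one_or (sign p) with h | h <;> simp [eqs, ep, h, sτ]

theorem inv5 {p : P5} (h : p * p = 1) :
    p = 1 ∨ (sign p = 1 ∧ IsConj ω p) ∨ (sign p = -1 ∧ IsConj τ p) := by
  have key : p * p = 1 → p = 1 ∨ p.support.card = 4 ∨ p.support.card = 2 := by
    simp only [Cd.eq_iff (n := 5), code_mul, card_support]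
    refine fp 5 (code p) ⟨p, rfl⟩ ?_
    decide +kernel
  refine (key h).imp_right (Or.imp (fun h1 => ?_) fun h1 => ?_)
  · have := S8.isConj_of_invol (p := ω) (by decide +kernel) h (by rw [h1]; decide +kernel)
    exact ⟨by rw [← sω]; exact isConj_iff_eq.1 (sign.map_isConj this.symm), this⟩
  · have := S8.isConj_of_invol (p := τ) (by decide +kernel) h (by rw [h1]; decide +kernel)
    exact ⟨by rw [← sτ]; exact isConj_iff_eq.1 (sign.map_isConj this.symm), this⟩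

theorem conj2 {x y p q : P5} (hx : τ * x = x * τ) (h1 : IsConj x p) (h2 : IsConj y q) :
    ∃ r s, eqs r s ∧ r * x * r⁻¹ = p ∧ s * y * s⁻¹ = q := by
  obtain ⟨r, rfl⟩ := isConj_iff.1 h1
  obtain ⟨s, rfl⟩ := isConj_iff.1 h2
  rcases Int.units_eq_one_or (sign r * sign s) with h | h
  · exact ⟨r, s, h, rfl, rfl⟩
  · exact ⟨r * τ, s, by rw [eqs, map_mul, mul_right_comm, h, sτ]; simp,
      by rw [mul_assoc r, hx]; group, rfl⟩

theorem tr_key {p : P5} (h : p * p = 1) : ∃ r, IsConj τ r ∧ r * p = p * r := by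
  rcases inv5 h with rfl | ⟨-, h1⟩ | ⟨-, h1⟩
  · exact ⟨τ, IsConj.refl _, by simp⟩
  · obtain ⟨g, rfl⟩ := isConj_iff.1 h1
    exact ⟨_, isConj_iff.2 ⟨g, rfl⟩, conj_comm (by decide +kernel)⟩
  · exact ⟨p, h1, rfl⟩

theorem sqrt_key {p : P5} (h : p * p = 1) (hs : sign p = 1) : ∃ r, sign r = -1 ∧ r * r = p := by
  rcases inv5 h with rfl | ⟨-, h1⟩ | ⟨h1, -⟩
  · exact ⟨τ, sτ, by decide +kernel⟩
  · obtain ⟨g, rfl⟩ := isConj_iff.1 h1
    exact ⟨g * (swap 0 3 * swap 3 1 * swap 1 4) * g⁻¹, by simp,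
      by rw [conj_mul]; congr 2; decide +kernel⟩
  · rw [hs] at h1; exact absurd h1 (by decide)

theorem cω_key (p : P5) : p * ω = ω * p → (p * ω * p⁻¹ = ω ∧ p ^ 4 = 1 ∧
    (p * u0 * p⁻¹ = u0 ∨ p * u0 * p⁻¹ = u0 * ω)) ∧
    (p.support.card = 4 → p * p = 1 → p = ω ∨ p = u0 ∨ p = ω * u0) := by
  simp only [Cd.eq_iff (n := 5), code_mul, code_pow, code_inv, card_support]
  refine fp 5 (code p) ⟨p, rfl⟩ ?_
  decide +kernel

theorem odd_key (q : P5) : q ^ 15 = 1 → q ≠ 1 → ∃ r ∈ ([swap 0 1 * swap 0 2 * swap 3 4, swap 3 4,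
    swap 0 1 * swap 0 2, swap 0 1 * swap 0 3] : List P5),
    r * q * r⁻¹ * q⁻¹ * (r * q * r⁻¹ * q⁻¹) = 1 ∧ r * q * r⁻¹ * q⁻¹ ≠ 1 := by
  simp only [List.mem_cons, List.not_mem_nil, or_false, exists_eq_or_imp, exists_eq_left]
  simp only [ne_eq, Cd.eq_iff (n := 5), code_mul, code_pow, code_inv]
  refine fp 5 (code q) ⟨q, rfl⟩ ?_
  decide +kernel

theorem cen_key (p : P5) : p * κ = κ * p → p * x0 = x0 * p → p = 1 := by
  simp only [Cd.eq_iff (n := 5), code_mul]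
  refine fp 5 (code p) ⟨p, rfl⟩ ?_
  decide +kernel

variable {G : Type*} [Group G]

/-- a model of the index two subgroup, with the swapping involution. -/
structure Wr0 (n : PH QQ G) (b : G) : Prop where
  mem : ∀ {p q}, (p, q) ∈ n.S ↔ eqs p q
  b2 : b * b = 1
  sw : ∀ {p q}, eqs p q → b * n.f (p, q) * b⁻¹ = n.f (q, p)

namespace Wr0

variable {n : PH QQ G} {b : G} (h : Wr0 n b)
include h

theorem fm {p q x y : P5} (h1 : eqs p q) (h2 : eqs x y) :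
    n.f (p, q) * n.f (x, y) = n.f (p * x, q * y) := (n.mul (h.mem.2 h1) (h.mem.2 h2)).symm

theorem fc {p q x y : P5} (h1 : eqs p q) (h2 : eqs x y) :
    n.f (p, q) * n.f (x, y) * (n.f (p, q))⁻¹ = n.f (p * x * p⁻¹, q * y * q⁻¹) :=
  (n.conj (h.mem.2 h1) (h.mem.2 h2)).symm

theorem fe {p q x y : P5} (h1 : eqs p q) (h2 : eqs x y) :
    n.f (p, q) = n.f (x, y) ↔ p = x ∧ q = y :=
  (n.eq_iff (h.mem.2 h1) (h.mem.2 h2)).trans Prod.ext_iff

theorem f1 {p q : P5} (h1 : eqs p q) : n.f (p, q) = 1 ↔ p = 1 ∧ q = 1 :=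
  (n.eq_one_iff (h.mem.2 h1)).trans Prod.ext_iff

theorem fcm {p q x y : P5} (h1 : eqs p q) (h2 : eqs x y) :
    n.f (p, q) * n.f (x, y) = n.f (x, y) * n.f (p, q) ↔ p * x = x * p ∧ q * y = y * q :=
  (n.comm_iff (h.mem.2 h1) (h.mem.2 h2)).trans Prod.ext_iff

theorem fsq {p q : P5} (h1 : eqs p q) : n.f (p, q) * n.f (p, q) = 1 ↔ p * p = 1 ∧ q * q = 1 :=
  (n.mul_eq_one_iff (h.mem.2 h1) (h.mem.2 h1)).trans Prod.ext_iff

theorem fpw {p q : P5} (h1 : eqs p q) (k : ℕ) : n.f (p, q) ^ k = 1 ↔ p ^ k = 1 ∧ q ^ k = 1 :=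
  (n.pow_eq_one_iff (h.mem.2 h1) k).trans Prod.ext_iff

theorem memR {g : G} : g ∈ n.range ↔ ∃ p q, eqs p q ∧ g = n.f (p, q) :=
  ⟨fun hg => (n.mem_range.1 hg).elim fun x hx => ⟨x.1, x.2, h.mem.1 hx.1, hx.2.symm⟩,
    fun ⟨_, _, h1, h2⟩ => h2 ▸ n.f_mem (h.mem.2 h1)⟩

theorem bR {g : G} (hg : g ∈ n.range) : b * g * b ∈ n.range := by
  obtain ⟨p, q, h1, rfl⟩ := h.memR.1 hg
  have := h.sw h1
  rw [inv_eq_of_mul_eq_one_right h.b2] at this
  exact h.memR.2 ⟨q, p, h1.symm, this⟩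

/-- the whole group. -/
def H : Subgroup G where
  carrier := {g | g ∈ n.range ∨ g * b ∈ n.range}
  one_mem' := Or.inl (one_mem _)
  mul_mem' := by
    rintro x y (hx | hx) (hy | hy)
    · exact Or.inl (mul_mem hx hy)
    · exact Or.inr (by simpa [mul_assoc] using mul_mem hx hy)
    · exact Or.inr (by simpa [mul_assoc, ls h.b2] using mul_mem hx (h.bR hy))
    · exact Or.inl (by simpa [mul_assoc, ls h.b2, h.b2] using mul_mem hx (h.bR hy))
  inv_mem' := by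
    rintro x (hx | hx)
    · exact Or.inl (inv_mem hx)
    · have := h.bR (inv_mem hx)
      exact Or.inr (by simpa [mul_assoc, ls h.b2, inv_eq_of_mul_eq_one_right h.b2] using this)

theorem fH {p q : P5} (h1 : eqs p q) : n.f (p, q) ∈ h.H := Or.inl (n.f_mem (h.mem.2 h1))

theorem bH : b ∈ h.H := Or.inr (h.b2 ▸ one_mem _)

theorem memH {g : G} (hg : g ∈ h.H) : ∃ p q, eqs p q ∧ (g = n.f (p, q) ∨ g = n.f (p, q) * b) := by
  rcases hg with hg | hg <;> obtain ⟨p, q, h1, h2⟩ := h.memR.1 hg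
  exacts [⟨p, q, h1, Or.inl h2⟩, ⟨p, q, h1, Or.inr (by rw [← h2, mul_assoc, h.b2, mul_one])⟩]

theorem fcb {p q x y : P5} (h1 : eqs p q) (h2 : eqs x y) :
    n.f (p, q) * b * n.f (x, y) * (n.f (p, q) * b)⁻¹ = n.f (p * y * p⁻¹, q * x * q⁻¹) := by
  rw [← h.fc h1 h2.symm, ← h.sw h2]; group

theorem sqb {p q : P5} (h1 : eqs p q) : n.f (p, q) * b * (n.f (p, q) * b) = n.f (p * q, q * p) := by
  rw [← h.fm h1 h1.symm, ← h.sw h1, inv_eq_of_mul_eq_one_right h.b2]; group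

theorem cent_H {g : G} (hg : g ∈ h.H) {x : P5} (hx : eqs x 1) (h1 : x ≠ 1)
    (hc : g * n.f (x, 1) = n.f (x, 1) * g) : ∃ p q, eqs p q ∧ g = n.f (p, q) ∧ p * x = x * p := by
  obtain ⟨p, q, h2, rfl | rfl⟩ := h.memH hg
  · exact ⟨p, q, h2, rfl, ((h.fcm h2 hx).1 hc).1⟩
  · rw [← mul_inv_eq_iff_eq_mul, h.fcb h2 hx, h.fe (hx.symm.cj _ _) hx] at hc
    exact absurd hc.2 (conj_ne_one h1)

theorem b_not_mem : b ∉ n.range := fun hb => by
  obtain ⟨p, q, h1, h2⟩ := h.memR.1 hb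
  have h3 : eqs ω 1 := by decide +kernel
  have := h.sw h3
  rw [h2, h.fc h1 h3, h.fe (h3.cj _ _) h3.symm] at this
  exact absurd this.1 (conj_ne_one (by decide +kernel))

end Wr0

/-- the local data of the final step. -/
structure Wr (n : PH QQ G) (b : G) : Prop extends Wr0 n b where
  se : SE3 toWr0.H
  cT : ∀ k, k * n.f (τ, τ) = n.f (τ, τ) * k → k ∈ toWr0.H
  nsq : ∀ g x, g * n.f (τ, τ) * g⁻¹ ≠ x * x
  hK : ∀ k, k * n.f (ω, 1) = n.f (ω, 1) * k → k * n.f (u0, 1) = n.f (u0, 1) * k → k ∈ toWr0.H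

namespace Wr

variable [Finite G] {n : PH QQ G} {b : G} (h : Wr n b)
include h

theorem uf_t : UF h.H (n.f (τ, τ)) := by
  have tt : eqs τ τ := eqs_iff.2 rfl
  have kk : eqs κ κ := eqs_iff.2 rfl
  refine uf_of_cent h.cT fun g hg => ?_
  have h2 := conj_sq (g := g) ((h.fsq tt).2 (by decide +kernel))
  obtain ⟨p, q, h1, e | e⟩ := h.memH hg
  · rw [e, h.fsq h1] at h2
    rcases Int.units_eq_one_or (sign p) with hp | hp
    · obtain ⟨r, r1, rfl⟩ := sqrt_key h2.1 hp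
      obtain ⟨s, s1, rfl⟩ := sqrt_key h2.2 ((eqs_iff.1 h1).symm.trans hp)
      have := eqs_iff.2 (r1.trans s1.symm)
      exact absurd (e.trans (h.fm this this).symm) (h.nsq _ _)
    · have key : ∀ {p : P5}, p * p = 1 → sign p = -1 → IsConj τ p := fun h2 hp => by
        rcases inv5 h2 with rfl | ⟨h1, -⟩ | ⟨-, h1⟩
        exacts [absurd hp (by simp), absurd (h1.symm.trans hp) (by decide), h1]
      obtain ⟨r, s, h3, rfl, rfl⟩ := conj2 rfl (key h2.1 hp) (key h2.2 ((eqs_iff.1 h1).symm.trans hp))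
      exact ⟨_, h.fH h3, by rw [e, h.fc h3 tt]⟩
  · rw [e, h.sqb h1, h.f1 (h1.mul h1.symm)] at h2
    have k2 : eqs (p * κ * p⁻¹) κ := by simpa using kk.cj p 1
    refine h.se.fuse' (h.fH kk) ((h.fpw kk 3).2 (by decide +kernel))
      ((h.f1 kk).not.2 (by decide +kernel)) ((h.fcm kk tt).2 (by decide +kernel)) (h.fH k2)
      ((h.fpw k2 3).2 ⟨conj_cube (by decide +kernel), by decide +kernel⟩)
      ((h.f1 k2).not.2 fun e => absurd e.2 (by decide +kernel)) ?_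
    rw [e, eq_comm, ← mul_inv_eq_iff_eq_mul, h.fcb h1 k2, eq_inv_of_mul_eq_one_left h2.2]
    simp [mul_assoc]

theorem ufT {p q : P5} (hp : IsConj τ p) (hq : IsConj τ q) : eqs p q ∧ UF h.H (n.f (p, q)) := by
  obtain ⟨r, s, h3, rfl, rfl⟩ := conj2 rfl hp hq
  exact ⟨(eqs_iff.2 rfl).cj _ _, h.fc h3 (eqs_iff.2 rfl) ▸ h.uf_t.conj (h.fH h3)⟩

theorem comm_T {s : G} (hs : s ∈ h.H) (h2 : s * s = 1) :
    ∃ x ∈ h.H, UF h.H x ∧ x ^ 2 = 1 ∧ x * s = s * x := by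
  have sq : ∀ {r}, IsConj τ r → r ^ 2 = 1 := fun hr => by
    obtain ⟨g, rfl⟩ := isConj_iff.1 hr
    rw [pow_two]; exact conj_sq (by decide +kernel)
  obtain ⟨p, q, h1, rfl | rfl⟩ := h.memH hs
  · rw [h.fsq h1] at h2
    obtain ⟨r, r1, r2⟩ := tr_key h2.1
    obtain ⟨s, s1, s2⟩ := tr_key h2.2
    obtain ⟨u1, u2⟩ := h.ufT r1 s1
    exact ⟨_, h.fH u1, u2, (h.fpw u1 2).2 ⟨sq r1, sq s1⟩, (h.fcm u1 h1).2 ⟨r2, s2⟩⟩
  · rw [h.sqb h1, h.f1 (h1.mul h1.symm)] at h2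
    have r1 : IsConj τ (p * τ * p⁻¹) := isConj_iff.2 ⟨p, rfl⟩
    obtain ⟨u1, u2⟩ := h.ufT r1 (IsConj.refl τ)
    refine ⟨_, h.fH u1, u2, (h.fpw u1 2).2 ⟨sq r1, sq (IsConj.refl τ)⟩, ?_⟩
    rw [eq_comm, ← mul_inv_eq_iff_eq_mul, h.fcb h1 u1, eq_inv_of_mul_eq_one_left h2.2]
    simp [mul_assoc]

theorem fuse2 {s g : G} (hs : s ∈ h.H) (h2 : s * s = 1) (hg : g * s * g⁻¹ ∈ h.H) :
    ∃ k ∈ h.H, k * s * k⁻¹ = g * s * g⁻¹ := by
  obtain ⟨x, -, x1, x2, x3⟩ := h.comm_T hs h2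
  obtain ⟨y, y0, y1, y2, y3⟩ := h.comm_T hg (conj_sq h2)
  exact fuse_p x1 x2 x3 y0 y1 y2 y3

theorem clsA {x : P5} (hx : eqs x 1) (h2 : x * x = 1) {g : G} (hg : g * n.f (x, 1) * g⁻¹ ∈ h.H) :
    ∃ p : P5, g * n.f (x, 1) * g⁻¹ = n.f (p * x * p⁻¹, 1) ∨
      g * n.f (x, 1) * g⁻¹ = n.f (1, p * x * p⁻¹) := by
  obtain ⟨k, hk, e⟩ := h.fuse2 (h.fH hx) ((h.fsq hx).2 ⟨h2, by simp⟩) hg
  obtain ⟨p, q, h1, rfl | rfl⟩ := h.memH hk
  · exact ⟨p, Or.inl (by rw [← e, h.fc h1 hx]; simp)⟩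
  · exact ⟨q, Or.inr (by rw [← e, h.fcb h1 hx]; simp)⟩

theorem nAC {x p q : P5} (hx : eqs x 1) (h2 : x * x = 1) (h1 : eqs p q) (hp : p ≠ 1) (hq : q ≠ 1)
    (g : G) : g * n.f (x, 1) * g⁻¹ ≠ n.f (p, q) := fun e => by
  have e1 : ∀ r, eqs (r * x * r⁻¹) 1 := fun r => by simpa using hx.cj r 1
  obtain ⟨r, e2 | e2⟩ := h.clsA hx h2 (e ▸ h.fH h1)
  · exact hq ((h.fe h1 (e1 r)).1 (e.symm.trans e2)).2
  · exact hp ((h.fe h1 (e1 r).symm).1 (e.symm.trans e2)).1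

theorem cent_a : ∀ g, g * n.f (ω, 1) = n.f (ω, 1) * g → g ∈ h.H := by
  have a1 : eqs ω 1 := by decide +kernel
  have a2 : eqs u0 1 := by decide +kernel
  have a3 : eqs 1 x0 := by decide +kernel
  have z3 := (h.fpw a3 3).2 (by decide +kernel)
  have z1 := (h.f1 a3).not.2 (by decide +kernel)
  refine h.se.cent_le (u := n.f (u0, 1)) (z := n.f (1, x0)) (v := n.f (1, ω)) (w := n.f (1, u0))
    ((h.fsq a1).2 (by decide +kernel)) (h.fH a1) ((h.fsq a2).2 (by decide +kernel))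
    ((h.f1 a2).not.2 (by decide +kernel)) ((h.fe a2 a1).not.2 (by decide +kernel)) (h.fH a2)
    ((h.fcm a2 a1).2 (by decide +kernel)) (fun g hg hu => ?_) (fun g hg hc => ?_) z3 z1 (h.fH a3)
    ((h.fcm a3 a1).2 (by simp)) ((h.fsq a1.symm).2 (by decide +kernel))
    ((h.f1 a1.symm).not.2 (by decide +kernel)) ((h.fe a1.symm a1).not.2 (by decide +kernel))
    ((h.fcm a1.symm a1).2 (by simp)) (by rw [h.fc a3 a1.symm]; congr 1; decide +kernel)
    (by rw [h.fc a3 a2.symm, h.fm a1.symm a2.symm]; congr 1; decide +kernel)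
    ((h.fcm a1.symm a2.symm).2 (by decide +kernel)) (fun g h1 h2 => ?_) fun g hg hc hodd h1 => ?_
  · have ga : g * n.f (ω, 1) * g⁻¹ = n.f (ω, 1) := mul_inv_eq_iff_eq_mul.2 hg
    obtain ⟨p, e | e⟩ := h.clsA a2 (by decide +kernel) hu
    swap
    · have e1 : eqs 1 (p * u0 * p⁻¹) := by simpa using a2.symm.cj 1 p
      have := cjm ga e
      rw [h.fm a1 a2, h.fm a1 e1, one_mul] at this
      exact absurd this (h.nAC (by decide +kernel) (by decide +kernel) (a1.mul e1)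
        (by decide +kernel) (by rw [one_mul]; exact conj_ne_one (by decide +kernel)) g)
    have e1 : eqs (p * u0 * p⁻¹) 1 := by simpa using a2.cj p 1
    have e2 := conj_comm (g := g) ((h.fcm a2 a1).2 (by decide +kernel))
    rw [ga, e, h.fcm e1 a1] at e2
    have c1 : n.f (1, x0) * n.f (ω, 1) = n.f (ω, 1) * n.f (1, x0) := (h.fcm a3 a1).2 (by simp)
    have c2 : n.f (1, x0) * n.f (p * u0 * p⁻¹, 1) = n.f (p * u0 * p⁻¹, 1) * n.f (1, x0) :=
      (h.fcm a3 e1).2 (by simp)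
    rw [← ga] at c1
    rw [← e] at c2
    refine (inv_mem_iff (x := g)).1 (h.se _ (h.fH a3) z3 z1 _ (h.hK _ ?_ ?_))
    · simpa [mul_assoc] using conj_comm (g := g⁻¹) c1
    · simpa [mul_assoc] using conj_comm (g := g⁻¹) c2
  · obtain ⟨p, q, h1, rfl, h2⟩ := h.cent_H hg a1 (by decide +kernel) hc
    rw [h.fc h1 a2, h.fm a2 a1]
    rcases (cω_key p h2).1.2.2 with e | e <;> simp [e]
  · rw [← h.sw a1] at h1
    rw [← h.sw a2] at h2
    have := h.hK (b⁻¹ * g * b) (by simpa [mul_assoc] using conj_comm (g := b⁻¹) h1)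
      (by simpa [mul_assoc] using conj_comm (g := b⁻¹) h2)
    simpa [mul_assoc] using mul_mem (mul_mem h.bH this) (inv_mem h.bH)
  · obtain ⟨p, q, h2, rfl, h3⟩ := h.cent_H hg a1 (by decide +kernel) hc
    obtain ⟨e1, e2⟩ := (h.fpw h2 _).1 (pow_orderOf_eq_one _)
    have c4 := (Nat.coprime_two_right.2 hodd).pow_right 2
    obtain rfl : p = 1 := orderOf_eq_one_iff.1 (Nat.eq_one_of_dvd_coprimes c4
      (orderOf_dvd_of_pow_eq_one e1) (orderOf_dvd_of_pow_eq_one (cω_key p h3).1.2.1))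
    obtain ⟨r, -, r1, r2⟩ := odd_key q (orderOf_dvd_iff_pow_eq_one.1
      ((c4.coprime_dvd_left (orderOf_dvd_of_pow_eq_one e2)).dvd_of_dvd_mul_left
        (orderOf_dvd_of_pow_eq_one ((pow_mul q 20 3).trans (pow60 q)))))
      (fun e => h1 ((h.f1 h2).2 ⟨rfl, e⟩))
    have e3 : eqs 1 (r * q * r⁻¹ * q⁻¹) := by
      simp only [eqs, map_mul, map_inv, mul_inv_cancel_comm, map_one, mul_inv_cancel, one_mul]
    have e4 : n.f (ep r, r) * n.f (1, q) * (n.f (ep r, r))⁻¹ * (n.f (1, q))⁻¹ =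
        n.f (1, r * q * r⁻¹ * q⁻¹) := by
      rw [h.fc (eqs_ep r) h2, mul_inv_eq_iff_eq_mul, h.fm e3 h2]; simp
    refine ⟨n.f (ep r, r), (h.fcm (eqs_ep r) a1).2 ⟨?_, by simp⟩, ?_⟩
    · unfold ep; split_ifs <;> decide +kernel
    · rw [e4]
      exact ⟨(h.fsq e3).2 ⟨by simp, r1⟩, (h.f1 e3).not.2 fun e => r2 e.2,
        (h.fe e3 a1).not.2 fun e => r2 e.2⟩

theorem uf_a : UF h.H (n.f (ω, 1)) :=
  uf_of_cent h.cent_a fun _ => h.fuse2 (h.fH (by decide +kernel))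
    ((h.fsq (by decide +kernel)).2 (by decide +kernel))

theorem ufA {p : P5} (hp : IsConj ω p) : UF h.H (n.f (p, 1)) ∧ UF h.H (n.f (1, p)) := by
  have a1 : eqs ω 1 := by decide +kernel
  obtain ⟨r, rfl⟩ := isConj_iff.1 hp
  have e1 := h.uf_a.conj (h.fH (eqs_iff.2 (rfl : sign r = sign r)))
  rw [h.fc (eqs_iff.2 rfl) a1, mul_one, mul_inv_cancel] at e1
  exact ⟨e1, h.sw (p := r * ω * r⁻¹) (q := 1) (by simpa using a1.cj r 1) ▸ e1.conj h.bH⟩

theorem cent_c : ∀ g, g * n.f (ω, ω) = n.f (ω, ω) * g → g ∈ h.H := by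
  intro g hg
  by_contra hgH
  have a1 : eqs ω 1 := by decide +kernel
  have a2 : eqs u0 1 := by decide +kernel
  have a3 : eqs ω ω := eqs_iff.2 rfl
  have cu : ∀ {p : P5}, p * p = 1 → p.support.card = 4 → IsConj ω p := fun h1 h2 =>
    S8.isConj_of_invol (by decide +kernel) h1 (by rw [h2]; decide +kernel)
  have uu := (h.ufA (p := u0) (cu (by decide +kernel) (by decide +kernel))).1
  have uu' := (h.ufA (p := ω * u0) (cu (by decide +kernel) (by decide +kernel))).1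
  have s1 := (h.fsq a1).2 (by decide +kernel)
  have s2 := (h.fsq a2).2 (by decide +kernel)
  let K : Subgroup G := centralizer {n.f (ω, ω)}
  have hK : ∀ {k}, k ∈ K ↔ k * n.f (ω, ω) = n.f (ω, ω) * k := mem_centralizer_singleton_iff
  have hgK : g ∈ K := hK.2 hg
  have key : ∀ k ∈ K, k * n.f (ω, 1) * k⁻¹ ∈ h.H →
      k * n.f (ω, 1) * k⁻¹ = n.f (ω, 1) ∨ k * n.f (ω, 1) * k⁻¹ = n.f (1, ω) := by
    intro k hk hk'
    have e := mul_inv_eq_iff_eq_mul.2 (hK.1 hk)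
    obtain ⟨p, q, h1, rfl | rfl⟩ := h.memH (h.uf_a k hk')
    · rw [h.fc h1 a3, h.fe (a3.cj _ _) a3] at e
      exact Or.inl (by rw [h.fc h1 a1, e.1]; simp)
    · rw [h.fcb h1 a3, h.fe (a3.cj _ _) a3] at e
      exact Or.inr (by rw [h.fcb h1 a1, e.2]; simp)
  obtain ⟨e, heK, e2, e1, ex, ey, k, hk, l, hl, hkl⟩ := dihedral (K := K) (x := n.f (ω, 1))
    (y := g * n.f (u0, 1) * g⁻¹) (hK.2 ((h.fcm a1 a3).2 (by simp)))
    (K.mul_mem (K.mul_mem hgK (hK.2 ((h.fcm a2 a3).2 (by decide +kernel)))) (K.inv_mem hgK)) s1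
    (conj_sq s2) (by
      intro k hk hk'
      have e : g⁻¹ * k * n.f (ω, 1) * (g⁻¹ * k)⁻¹ = n.f (u0, 1) := by
        calc _ = g⁻¹ * (k * n.f (ω, 1) * k⁻¹) * g := by group
          _ = _ := by rw [hk']; group
      have := key _ (K.mul_mem (K.inv_mem hgK) hk) (e ▸ h.fH a2)
      rw [e, h.fe a2 a1, h.fe a2 a1.symm] at this
      revert this; decide +kernel)
  have heH : e ∈ h.H := h.cent_a e ex
  have he'H : g⁻¹ * e * g ∈ h.H := uu.of_comm (h.fH a2) (by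
    simpa [mul_assoc] using conj_comm (g := g⁻¹) ey)
  rcases hkl with ⟨h1, h2⟩ | ⟨-, h2⟩
  · rcases key k hk (h1 ▸ mul_mem heH (h.fH a1)) with h3 | h3
    · exact e1 (right_eq_mul.1 (h3.symm.trans h1))
    · have h4 : e = n.f (ω, ω) := by
        rw [← mul_left_inj (n.f (ω, 1)), ← h1, h3, h.fm a3 a1]; congr 1; decide +kernel
      refine h.nAC a2 (by decide +kernel) (a3.mul a2) (by decide +kernel) (by decide +kernel)
        (g⁻¹ * l * g) ?_
      calc _ = g⁻¹ * (l * (g * n.f (u0, 1) * g⁻¹) * l⁻¹) * g := by group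
        _ = g⁻¹ * (n.f (ω, ω) * g) * n.f (u0, 1) := by rw [h2, h4]; group
        _ = _ := by rw [← hg, ← h.fm a3 a2]; group
  · have ee : g⁻¹ * l * n.f (ω, 1) * (g⁻¹ * l)⁻¹ = g⁻¹ * e * g * n.f (u0, 1) := by
      calc _ = g⁻¹ * (l * n.f (ω, 1) * l⁻¹) * g := by group
        _ = _ := by rw [h2]; group
    have h3 := key _ (K.mul_mem (K.inv_mem hgK) hl) (ee ▸ mul_mem he'H (h.fH a2))
    rw [ee, ← eq_mul_inv_iff_mul_eq (b := n.f (ω, 1)), ← eq_mul_inv_iff_mul_eq (b := n.f (1, ω)),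
      inv_eq_of_mul_eq_one_right s2, h.fm a1 a2, h.fm a1.symm a2, one_mul, one_mul, mul_one] at h3
    rcases h3 with h3 | h3
    · exact hgH (uu' g (by rw [← h3]; simpa [mul_assoc] using heH))
    · have h4 : n.f (ω * u0, 1) = n.f (ω, ω) * (g⁻¹ * e * g) := by
        rw [h3, h.fm a3 (by decide +kernel)]; congr 1; decide +kernel
      refine hgH (uu' g ?_)
      rw [h4, ← mul_assoc, hg]
      simpa [mul_assoc] using mul_mem (h.fH a3) heH

theorem uf_inv {p q : P5} (h1 : eqs p q) (h2 : n.f (p, q) * n.f (p, q) = 1) (h3 : n.f (p, q) ≠ 1) :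
    UF h.H (n.f (p, q)) := by
  have a3 : eqs ω ω := eqs_iff.2 rfl
  rw [h.fsq h1] at h2
  have h4 := eqs_iff.1 h1
  rcases inv5 h2.1 with rfl | ⟨p1, p2⟩ | ⟨p1, p2⟩ <;> rcases inv5 h2.2 with rfl | ⟨q1, q2⟩ | ⟨q1, q2⟩
  · exact absurd n.one h3
  · exact (h.ufA q2).2
  · simp [q1] at h4
  · exact (h.ufA p2).1
  · obtain ⟨r, s, h5, rfl, rfl⟩ := conj2 (by decide +kernel) p2 q2
    exact h.fc h5 a3 ▸ (uf_of_cent h.cent_c fun _ => h.fuse2 (h.fH a3)
      ((h.fsq a3).2 (by decide +kernel))).conj (h.fH h5)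
  · simp [p1, q1] at h4
  · simp [p1] at h4
  · simp [p1, q1] at h4
  · exact (h.ufT p2 q2).2

theorem top (g : G) : g ∈ h.H := by
  by_contra hgH
  have a1 : eqs ω 1 := by decide +kernel
  have tt : eqs τ τ := eqs_iff.2 rfl
  obtain ⟨e, -, e2, e1, ex, ey, -⟩ := dihedral (K := ⊤) (x := n.f (ω, 1))
    (y := g * n.f (τ, τ) * g⁻¹) trivial trivial ((h.fsq a1).2 (by decide +kernel))
    (conj_sq ((h.fsq tt).2 (by decide +kernel))) (fun k _ hk =>
      h.nAC a1 (by decide +kernel) tt (by decide +kernel) (by decide +kernel) (g⁻¹ * k) (by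
        calc _ = g⁻¹ * (k * n.f (ω, 1) * k⁻¹) * g := by group
          _ = _ := by rw [hk]; group))
  obtain ⟨p, q, h1, rfl, -⟩ := h.cent_H (h.cent_a e ex) a1 (by decide +kernel) ex
  exact hgH ((inv_mem_iff (x := g)).1 (h.uf_inv h1 e2 e1 _ (h.cT _ (by
    simpa [mul_assoc] using conj_comm (g := g⁻¹) ey))))

theorem struct : ∃ N : Subgroup G, N.Normal ∧ Cfsg.generalizedFittingSubgroup G = N ∧
    Nonempty (N ≃* alternatingGroup (Fin 5) × alternatingGroup (Fin 5)) ∧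
    (∀ K : Subgroup G, K.Normal → K ≤ N → K = ⊥ ∨ K = N) ∧ N.index = 4 ∧ ∀ g : G, g ^ 2 ∈ N := by
  have ev : ∀ {p q : P5}, sign p = 1 → sign q = 1 → eqs p q := fun hp hq => eqs_iff.2 (hp.trans hq.symm)
  let ψ : alternatingGroup (Fin 5) × alternatingGroup (Fin 5) →* G := n.hom.comp
    (((alternatingGroup (Fin 5)).subtype.prodMap (alternatingGroup (Fin 5)).subtype).codRestrict n.S
      fun x => h.mem.2 (ev x.1.2 x.2.2))
  have hψ : Function.Injective ψ := fun x y e => by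
    have := (h.fe (ev x.1.2 x.2.2) (ev y.1.2 y.2.2)).1 e
    exact Prod.ext (Subtype.ext this.1) (Subtype.ext this.2)
  have mN : ∀ {p q}, eqs p q → (n.f (p, q) ∈ ψ.range ↔ sign p = 1) := fun {p q} h1 =>
    ⟨fun ⟨x, e⟩ => ((h.fe (ev x.1.2 x.2.2) h1).1 e).1 ▸ x.1.2,
      fun hp => ⟨(⟨p, hp⟩, ⟨q, (eqs_iff.1 h1).symm.trans hp⟩), rfl⟩⟩
  have mN' : ∀ {g}, g ∈ ψ.range → ∃ p q, sign p = 1 ∧ sign q = 1 ∧ g = n.f (p, q) :=
    fun ⟨x, e⟩ => ⟨_, _, x.1.2, x.2.2, e.symm⟩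
  have hN : ψ.range.Normal := ⟨fun x hx g => by
    obtain ⟨x, y, x1, y1, rfl⟩ := mN' hx
    obtain ⟨p, q, h1, rfl | rfl⟩ := h.memH (h.top g)
    · rw [h.fc h1 (ev x1 y1), mN ((ev x1 y1).cj _ _)]; simp [x1]
    · rw [h.fcb h1 (ev x1 y1), mN ((ev y1 x1).cj _ _)]; simp [y1]⟩
  have sκ : sign κ = 1 := by rw [sign_eq_one]; decide +kernel
  have sx : sign x0 = 1 := by rw [sign_eq_one]; decide +kernel
  let φ := ψ.comp (MonoidHom.inl _ _)
  have : IsSimpleGroup (alternatingGroup (Fin 5)) := alternatingGroup.isSimpleGroup (by simp)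
  have hmin : ∀ K : Subgroup G, K.Normal → K ≤ ψ.range → K = ⊥ ∨ K = ψ.range := by
    intro K hK hle
    refine (hK.comap φ).eq_bot_or_eq_top.imp (fun e => eq_bot_iff.2 fun g hg => ?_)
      fun e => le_antisymm hle fun g hg => ?_
    · have key : ∀ p q, sign p = 1 → sign q = 1 → n.f (p, q) ∈ K → p = 1 := by
        intro p q p1 q1 hg
        have k2 : ∀ r, sign r = 1 → p * r = r * p := fun r hr => by
          have e1 := ev hr (map_one sign)
          have e2 : sign (r * (p * r⁻¹ * p⁻¹)) = 1 := by simp [hr]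
          have : (⟨_, e2⟩ : alternatingGroup (Fin 5)) ∈ K.comap φ := by
            have := mul_mem (hK.conj_mem _ hg (n.f (r, 1))) (inv_mem hg)
            rw [h.fc e1 (ev p1 q1), ← n.inv (h.mem.2 (ev p1 q1)), Prod.inv_mk,
              h.fm ((ev p1 q1).cj _ _) (ev (by simp [p1]) (by simp [q1]))] at this
            change n.f (_, 1) ∈ K
            simpa [mul_assoc] using this
          rw [e, mem_bot, Subtype.ext_iff] at this
          change r * (p * r⁻¹ * p⁻¹) = 1 at this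
          calc _ = r * (p * r⁻¹ * p⁻¹) * (p * r) := by rw [this, one_mul]
            _ = _ := by group
        exact cen_key p (k2 _ sκ) (k2 _ sx)
      obtain ⟨p, q, p1, q1, rfl⟩ := mN' (hle hg)
      exact (h.f1 (ev p1 q1)).2 ⟨key p q p1 q1 hg, key q p q1 p1 (h.sw (ev p1 q1) ▸ hK.conj_mem _ hg b)⟩
    · have key : ∀ p, sign p = 1 → n.f (p, 1) ∈ K := fun p hp =>
        (show (⟨p, hp⟩ : alternatingGroup (Fin 5)) ∈ K.comap φ from e ▸ mem_top _)
      obtain ⟨p, q, p1, q1, rfl⟩ := mN' hg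
      have := mul_mem (key p p1) (hK.conj_mem _ (key q q1) b)
      rw [h.sw (ev q1 (map_one _)), h.fm (ev p1 (map_one _)) (ev (map_one _) q1)] at this
      simpa using this
  have hC : centralizer (ψ.range : Set G) ≤ ψ.range := fun g hg => by
    have e1 := ev sκ (map_one sign)
    have e2 := ev sx (map_one sign)
    obtain ⟨p, q, h1, rfl, h2⟩ := h.cent_H (h.top g) e1 (by decide +kernel) (hg _ ((mN e1).2 sκ)).symm
    rw [mN h1, cen_key p h2 ((h.fcm h1 e2).1 (hg _ ((mN e2).2 sx)).symm).1, map_one]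
  refine ⟨ψ.range, hN, le_antisymm (sup_le (H23.layer_le_of_centralizer_le hN.isSubnormal hC) ?_)
    (H23.minNormal_le_fStar hmin), ⟨(ψ.ofInjective hψ).symm⟩, hmin, ?_, fun g => ?_⟩
  · rcases hmin (Cfsg.fittingSubgroup G ⊓ ψ.range) inferInstance inf_le_right with e | e
    · exact fun g hg => hC fun x hx =>
        (commute_of_normal_of_disjoint _ _ inferInstance hN (disjoint_iff.2 e) g x hg hx).eq.symm
    · exfalso
      have := H23.isSolvable_fitting (G := G)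
      have h2 : Group.IsSolvable (alternatingGroup (Fin 5)) := Group.isSolvable_of_isSolvable_injective
        (f := φ.codRestrict (Cfsg.fittingSubgroup G) fun x => (e.ge ⟨_, rfl⟩).1)
        fun x y e => Prod.mk_left_injective 1 (hψ (congrArg Subtype.val e))
      exact absurd (show κ * x0 = x0 * κ from
        congrArg Subtype.val (IsSimpleGroup.comm_iff_isSolvable.2 h2 ⟨κ, sκ⟩ ⟨x0, sx⟩)) (by decide +kernel)
  · have hle : ψ.range ≤ n.range := fun g hg => by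
      obtain ⟨p, q, p1, q1, rfl⟩ := mN' hg
      exact h.memR.2 ⟨p, q, ev p1 q1, rfl⟩
    have tt : eqs τ τ := eqs_iff.2 rfl
    have i1 : n.range.index = 2 := index_eq_two_iff.2 ⟨b, fun g => by
      by_cases hg : g ∈ n.range
      · exact Or.inr ⟨hg, fun e => h.b_not_mem ((mul_mem_cancel_left hg).1 e)⟩
      · exact Or.inl ⟨(h.top g).resolve_left hg, hg⟩⟩
    have i2 : ψ.range.relIndex n.range = 2 := index_eq_two_iff.2
      ⟨⟨_, h.memR.2 ⟨τ, τ, tt, rfl⟩⟩, fun ⟨g, hg⟩ => by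
        obtain ⟨p, q, h1, rfl⟩ := h.memR.1 hg
        simp only [mem_subgroupOf, Subgroup.coe_mul, h.fm h1 tt, mN h1, mN (h1.mul tt), map_mul, sτ]
        rcases Int.units_eq_one_or (sign p) with e | e <;> simp [e]⟩
    rw [← relIndex_mul_index hle, i1, i2]
  · obtain ⟨p, q, h1, rfl | rfl⟩ := h.memH (h.top g)
    · rw [pow_two, h.fm h1 h1, mN (h1.mul h1)]; simp
    · rw [pow_two, h.sqb h1, mN (h1.mul h1.symm), map_mul]; exact h1

end Wr

end H58.St
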